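import Cfsg.Agent.SixtyFourSym.Basic
import Cfsg.Agent.LocalB.SixtyFourModels
import Cfsg.Agent.Invol.Dihedral
import Cfsg.Agent.InvChar.UniqueInvolution
import Mathlib.FieldTheory.Finite.GaloisField

/-!
A noncommutative group of order 64 with a symmetric group of degree three acting, fixed-point-freely for
the element of order three: a Sylow 2-subgroup of `PSL₃(4)`.
-/

set_option autoImplicit false
set_option linter.unusedSectionVars false
set_option linter.style.haveILetI false

namespace CfsgLib.SixtyFourSym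

open scoped commutatorElement
open CfsgLib.SixtyFour

variable {T : Type*} [Group T] [Finite T] (r : T ≃* T)

theorem exists_rel_of_pair (S : Str r) (h3 : ∀ y, r (r (r y)) = y) (hfp : ∀ y, r y = y → y = 1)
    (hT : Nat.card T = 64) {a b : T} (ha : a * a = 1) (hb : b * b = 1)
    (hgen : ∀ H : Subgroup T, (∀ y ∈ H, r y ∈ H) → a ∈ H → b ∈ H → H = ⊤) :
    ∃ R : Rel true T, R.span = ⊤ ∧ Function.Injective R.word := by
  obtain ⟨e1, e2, e3, -⟩ := comm_values r S h3 hfp a b
  set u := ⁅a, b⁆ with hu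
  have hu2 : u * u = 1 := S.exp _ (S.hcl a b)
  have hru2 : r u * r u = 1 := by rw [← map_mul, hu2, map_one]
  have hcen : ∀ g : T, Commute g u := fun g => Subgroup.mem_center_iff.1 (S.hcl a b) g
  have hcen' : ∀ g : T, Commute g (r u) := fun g =>
    Subgroup.mem_center_iff.1 (map_center r (S.hcl a b)) g
  have hrr : r (r u) = u * r u := by
    rw [rr_eq r h3 hfp, inv_eq_of_mul_eq_one_right hu2, inv_eq_of_mul_eq_one_right hru2, (hcen (r u)).eq]
  have hswap : ∀ y z : T, z * y = y * z * ⁅y, z⁆ := by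
    intro y z
    have h : z * y = ⁅z, y⁆ * (y * z) := by rw [commutatorElement_def]; group
    rw [h, ← commutatorElement_inv y z, inv_eq_of_mul_eq_one_right (S.exp _ (S.hcl y z)),
      Subgroup.mem_center_iff.1 (S.hcl y z) (y * z)]
  let R : Rel true T :=
    { a := a
      a' := r a
      b := b
      b' := r b
      u := u
      u' := r u
      uc := fun g _ => hcen g
      uc' := fun g _ => hcen' g
      uu := hu2
      uu' := hru2
      aa' := commute_r r h3 hfp a
      bb' := commute_r r h3 hfp b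
      ba := hswap a b
      b'a := by rw [hswap a (r b), e1, hrr]
      ba' := by rw [hswap (r a) b, e2, hrr]
      b'a' := by rw [hswap (r a) (r b), e3]
      asq := by simpa using ha
      a'sq := by simpa [← map_mul] using congrArg r ha
      bsq := by simpa using hb
      b'sq := by simpa [← map_mul] using congrArg r hb }
  have hmem : ∀ g ∈ ({a, r a, b, r b, u, r u} : Set T), g ∈ R.span := fun g hg => Subgroup.subset_closure hg
  have htop : R.span = ⊤ := by
    refine hgen _ ?_ (hmem a (by simp)) (hmem b (by simp))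
    intro y hy
    refine (show R.span ≤ R.span.comap r.toMonoidHom from (Subgroup.closure_le _).2 ?_) hy
    intro g hg
    show r g ∈ R.span
    simp only [Set.mem_insert_iff, Set.mem_singleton_iff] at hg
    rcases hg with rfl | rfl | rfl | rfl | rfl | rfl
    · exact hmem _ (by simp [R])
    · rw [rr_eq r h3 hfp]
      exact mul_mem (inv_mem (hmem _ (by simp))) (inv_mem (hmem _ (by simp)))
    · exact hmem _ (by simp [R])
    · rw [rr_eq r h3 hfp]
      exact mul_mem (inv_mem (hmem _ (by simp))) (inv_mem (hmem _ (by simp)))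
    · exact hmem _ (by simp [R])
    · rw [hrr]
      exact mul_mem (hmem _ (by simp)) (hmem _ (by simp))
  refine ⟨R, htop, ?_⟩
  refine (Function.Surjective.bijective_of_nat_card_le
    (fun y => R.exists_word (htop.ge (Subgroup.mem_top y))) ?_).1
  rw [hT]
  simp [Nat.card_eq_fintype_card]

theorem main (hT : Nat.card T = 64) (hna : ¬ IsMulCommutative T) (ρ x : MulAut T) (hρ : orderOf ρ = 3)
    (hx : orderOf x = 2) (hxr : x * ρ * x⁻¹ = ρ⁻¹) (hfp : ∀ y : T, ρ y = y → y = 1) (C : Subgroup T)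
    (hC : ∀ y : T, y ∈ C ↔ x y = y) :
    (∃ (F : Type) (_ : Field F) (_ : Fintype F), Fintype.card F = 4 ∧
        ∃ S : Sylow 2 (Matrix.ProjectiveSpecialLinearGroup (Fin 3) F),
          Nonempty (T ≃* ↥(S : Subgroup (Matrix.ProjectiveSpecialLinearGroup (Fin 3) F)))) ∧
      (Nonempty (↥C ≃* DihedralGroup 4) ∨ Nonempty (↥C ≃* QuaternionGroup 2)) := by
  classical
  haveI : Fact (Nat.Prime 2) := ⟨Nat.prime_two⟩
  have hρ3 : ρ ^ 3 = 1 := hρ ▸ pow_orderOf_eq_one ρ
  have hx22 : x * x = 1 := by rw [← pow_two]; exact hx ▸ pow_orderOf_eq_one x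
  have h3 : ∀ y, ρ (ρ (ρ y)) = y := fun y => by
    rw [← MulAut.mul_apply, ← MulAut.mul_apply, ← pow_three', hρ3]; rfl
  have hx2 : ∀ y, x (x y) = y := fun y => by rw [← MulAut.mul_apply, hx22]; rfl
  have hxr' : ∀ y, x (ρ y) = ρ (ρ (x y)) := fun y => by
    have h : x * ρ = ρ * ρ * x := by
      rw [show ρ * ρ = ρ⁻¹ from eq_inv_of_mul_eq_one_left (by rw [← pow_three', hρ3]), ← hxr,
        inv_mul_cancel_right]
    exact DFunLike.congr_fun h y
  obtain ⟨y₀, z₀, hyz⟩ : ∃ y z : T, ⁅y, z⁆ ≠ 1 := by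
    by_contra h
    push Not at h
    exact hna ⟨⟨fun y z => commutatorElement_eq_one_iff_mul_comm.1 (h y z)⟩⟩
  have S : Str ρ := str ρ h3 hfp hT ⟨y₀, z₀, hyz⟩
  have hbij := fix_prod_bijective ρ h3 hfp x hx2 hxr' C hC
  have hcard : Nat.card C = 8 := by
    have h := Nat.card_eq_of_bijective _ hbij
    rw [Nat.card_prod, hT] at h
    exact Nat.mul_self_inj.1 (by rw [h])
  have hgenC : ∀ H : Subgroup T, (∀ y ∈ H, ρ y ∈ H) → C ≤ H → H = ⊤ := fun H hr hle =>
    (Subgroup.eq_top_iff' H).2 fun y => by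
      obtain ⟨⟨f, g⟩, rfl⟩ := hbij.2 y
      exact mul_mem (hle f.2) (hr _ (hle g.2))
  have hml := FpfThreeTwo.comm_mul_left S.hcl
  have hmr := FpfThreeTwo.comm_mul_right S.hcl
  obtain ⟨a, haC, b, hbC, hab⟩ : ∃ a ∈ C, ∃ b ∈ C, ⁅a, b⁆ ≠ 1 := by
    by_contra h
    push Not at h
    refine hyz ?_
    obtain ⟨⟨⟨f, hf⟩, ⟨g, hg⟩⟩, rfl⟩ := hbij.2 y₀
    obtain ⟨⟨⟨f', hf'⟩, ⟨g', hg'⟩⟩, rfl⟩ := hbij.2 z₀
    show ⁅f * ρ g, f' * ρ g'⁆ = 1
    rw [hml, hmr, hmr, h f hf f' hf', (comm_values ρ S h3 hfp f g').1, h f hf g' hg',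
      (comm_values ρ S h3 hfp g f').2.1, h g hg f' hf', (comm_values ρ S h3 hfp g g').2.2.1, h g hg g' hg']
    simp
  set u := ⁅a, b⁆ with hu
  have huC : u ∈ C := by
    rw [hu, commutatorElement_def]
    exact C.mul_mem (C.mul_mem (C.mul_mem haC hbC) (C.inv_mem haC)) (C.inv_mem hbC)
  have huZ : u ∈ Subgroup.center T := S.hcl a b
  have hZC : ∀ w ∈ Subgroup.center T, w ∈ C → w = 1 ∨ w = u := by
    intro w hw hwC
    rcases S.four u huZ hab w hw with h | h | h | h
    · exact Or.inl h
    · exact Or.inr h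
    · exfalso
      have h2 := (hC w).1 hwC
      rw [h, hxr', (hC u).1 huC] at h2
      exact hab (hfp u (ρ.injective h2))
    · exfalso
      have h2 := (hC w).1 hwC
      rw [h, hxr', hxr', (hC u).1 huC, h3] at h2
      exact hab (hfp u (ρ.injective h2.symm))
  have ha2 := hZC _ (S.sq a) (C.mul_mem haC haC)
  have hb2 := hZC _ (S.sq b) (C.mul_mem hbC hbC)
  have hnc : ¬ Commute a b := fun h => hab (commutatorElement_eq_one_iff_mul_comm.2 h.eq)
  have hcl : Subgroup.closure ({a, b} : Set T) = C := by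
    have hle : Subgroup.closure ({a, b} : Set T) ≤ C := by
      rw [Subgroup.closure_le]
      intro y hy
      simp only [Set.mem_insert_iff, Set.mem_singleton_iff] at hy
      rcases hy with rfl | rfl <;> assumption
    refine Subgroup.eq_of_le_of_card_ge hle ?_
    set K := Subgroup.closure ({a, b} : Set T)
    have haK : a ∈ K := Subgroup.subset_closure (by simp)
    have hbK : b ∈ K := Subgroup.subset_closure (by simp)
    let s : Finset T := {1, a, b, a * b, b * a}
    have hs : s.card = 5 := by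
      have h1 : a ≠ 1 := fun h => hnc (h ▸ Commute.one_left b)
      have h2 : b ≠ 1 := fun h => hnc (h ▸ Commute.one_right a)
      have h3 : a ≠ b := fun h => hnc (h ▸ Commute.refl a)
      have h4 : a * b ≠ 1 := fun h => hnc (by rw [eq_inv_of_mul_eq_one_right h]; exact (Commute.refl a).inv_right)
      have h5 : b * a ≠ 1 := fun h => hnc (by rw [eq_inv_of_mul_eq_one_left h]; exact (Commute.refl a).inv_right)
      have h6 : a * b ≠ b * a := hnc
      simp [s, h1, h1.symm, h2, h2.symm, h3, h3.symm, h4, h4.symm, h5, h5.symm, h6]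
    have hsK : (s : Set T) ⊆ K := by
      intro y hy
      simp only [s, Finset.coe_insert, Finset.coe_singleton, Set.mem_insert_iff, Set.mem_singleton_iff] at hy
      rcases hy with rfl | rfl | rfl | rfl | rfl
      exacts [one_mem _, haK, hbK, mul_mem haK hbK, mul_mem hbK haK]
    have h5 : 5 ≤ Nat.card K := by
      have h := Set.ncard_le_ncard hsK (Set.toFinite _)
      rwa [Set.ncard_coe_finset, hs, ← Nat.card_coe_set_eq] at h
    have hd : Nat.card K ∣ 8 := hcard ▸ Subgroup.card_dvd_of_le hle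
    have h8 := Nat.le_of_dvd (by norm_num) hd
    rw [hcard]
    interval_cases hh : Nat.card K <;> omega
  have hgenab : ∀ H : Subgroup T, (∀ y ∈ H, ρ y ∈ H) → a ∈ H → b ∈ H → H = ⊤ := fun H hr h1 h2 =>
    hgenC H hr (by
      rw [← hcl, Subgroup.closure_le]
      intro y hy
      simp only [Set.mem_insert_iff, Set.mem_singleton_iff] at hy
      rcases hy with rfl | rfl <;> assumption)
  have hswap : ∀ y z : T, z * y = y * z * ⁅y, z⁆ := by
    intro y z
    have h : z * y = ⁅z, y⁆ * (y * z) := by rw [commutatorElement_def]; group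
    rw [h, ← commutatorElement_inv y z, inv_eq_of_mul_eq_one_right (S.exp _ (S.hcl y z)),
      Subgroup.mem_center_iff.1 (S.hcl y z) (y * z)]
  have hmulsq : ∀ y z : T, (y * z) * (y * z) = y * y * (z * z) * ⁅y, z⁆ := fun y z => by
    calc (y * z) * (y * z) = y * (z * y) * z := by group
      _ = y * y * (z * (⁅y, z⁆ * z)) := by rw [hswap y z]; group
      _ = _ := by rw [← Subgroup.mem_center_iff.1 (S.hcl y z) z]; group
  have hu2 : u * u = 1 := S.exp u huZ
  obtain ⟨R, hRtop, hR⟩ : ∃ R : Rel true T, R.span = ⊤ ∧ Function.Injective R.word := by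
    rcases ha2 with ha1 | ha1 <;> rcases hb2 with hb1 | hb1
    · exact exists_rel_of_pair ρ S h3 hfp hT ha1 hb1 hgenab
    · exact exists_rel_of_pair ρ S h3 hfp hT ha1 (show (a * b) * (a * b) = 1 by
        rw [hmulsq, ha1, hb1, one_mul, hu2]) fun H hr h1 h2 => hgenab H hr h1 ((mul_mem_cancel_left h1).1 h2)
    · exact exists_rel_of_pair ρ S h3 hfp hT hb1 (show (a * b) * (a * b) = 1 by
        rw [hmulsq, ha1, hb1, mul_one, hu2]) fun H hr h1 h2 => hgenab H hr ((mul_mem_cancel_right h1).1 h2) h1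
    · obtain ⟨e1, e2, e3, e4⟩ := comm_values ρ S h3 hfp a b
      have hinv := inv_eq ρ h3 hfp u
      rw [inv_eq_of_mul_eq_one_right hu2] at hinv
      have p1 : (a * ρ b) * (a * ρ b) = 1 := by
        rw [hmulsq, ha1, ← map_mul, hb1, e1, mul_assoc, ← hinv, hu2]
      have p2 : (a * ρ (ρ b)) * (a * ρ (ρ b)) = 1 := by
        rw [hmulsq, ha1, ← map_mul, ← map_mul, hb1, e4, mul_assoc,
          ← Subgroup.mem_center_iff.1 (map_center ρ (map_center ρ huZ)) (ρ u), ← hinv, hu2]
      refine exists_rel_of_pair ρ S h3 hfp hT p1 p2 fun H hr h1 h2 => ?_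
      -- the quotient of the two generators gives `b` up to a central element
      have hd : (ρ b)⁻¹ * ρ (ρ b) ∈ H := by
        have := mul_mem (inv_mem h1) h2
        rwa [show (a * ρ b)⁻¹ * (a * ρ (ρ b)) = (ρ b)⁻¹ * ρ (ρ b) by group] at this
      have hd' : ρ u * b⁻¹ ∈ H := by
        have e : (ρ b)⁻¹ * ρ (ρ b) = ρ u * b⁻¹ := by
          rw [rr_eq ρ h3 hfp b, ← mul_assoc, ← mul_inv_rev, ← map_mul, hb1, ← map_inv,
            inv_eq_of_mul_eq_one_right hu2]
        rwa [e] at hd
      have hu' : ρ u ∈ H ∧ b ∈ H := by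
        have hsq : (ρ u * b⁻¹) * (ρ u * b⁻¹) ∈ H := mul_mem hd' hd'
        have e : (ρ u * b⁻¹) * (ρ u * b⁻¹) = u := by
          have hc : Commute b⁻¹ (ρ u) := Subgroup.mem_center_iff.1 (map_center ρ huZ) b⁻¹
          rw [mul_assoc, ← mul_assoc b⁻¹, hc.eq, ← mul_assoc, ← mul_assoc, ← map_mul, hu2, map_one, one_mul,
            ← mul_inv_rev, hb1, inv_eq_of_mul_eq_one_right hu2]
        rw [e] at hsq
        exact ⟨hr _ hsq, inv_mem_iff.1 ((mul_mem_cancel_left (hr _ hsq)).1 hd')⟩
      exact hgenab H hr ((mul_mem_cancel_right (hr _ hu'.2)).1 h1) hu'.2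
  refine ⟨?_, ?_⟩
  · haveI : Fintype (GaloisField 2 2) := Fintype.ofFinite _
    have hF : Fintype.card (GaloisField 2 2) = 4 := by
      rw [← Nat.card_eq_fintype_card, GaloisField.card 2 2 (by norm_num)]; norm_num
    refine ⟨GaloisField 2 2, inferInstance, inferInstance, hF, ?_⟩
    obtain ⟨Q, hQ⟩ := exists_rel_psl hF
    obtain ⟨P⟩ := (inferInstance : Nonempty (Sylow 2 (Matrix.ProjectiveSpecialLinearGroup (Fin 3) (GaloisField 2 2))))
    exact ⟨P, R.sylow_equiv Q hR hQ hRtop (by norm_num) (card_psl_three_four hF) P⟩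
  · have hord4 : ∀ y : T, y * y ∈ Subgroup.center T → y * y ≠ 1 → orderOf y = 4 := fun y hy hy1 =>
      orderOf_eq_prime_pow (p := 2) (n := 1) (by simpa [pow_two] using hy1)
        (by rw [show (2 : ℕ) ^ (1 + 1) = 2 + 2 by norm_num, pow_add, pow_two]; exact S.exp _ hy)
    have hdih : ∀ p ∈ C, ∀ q ∈ C, p * p = 1 → q * q = 1 → ⁅p, q⁆ ≠ 1 →
        Subgroup.closure ({p, q} : Set T) = C → Nonempty (↥C ≃* DihedralGroup 4) := by
      intro p _ q _ hp hq hpq hgen
      have hp2 : orderOf p = 2 := Invol.orderOf_eq_two hp fun h => hpq (by rw [h, commutatorElement_one_left])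
      have hq2 : orderOf q = 2 := Invol.orderOf_eq_two hq fun h => hpq (by rw [h, commutatorElement_one_right])
      have hne : p ≠ q := fun h => hpq (by rw [h, commutatorElement_self])
      have h4 : orderOf (p * q) = 4 := hord4 _ (S.sq _) (by rw [hmulsq, hp, hq, one_mul, one_mul]; exact hpq)
      obtain ⟨e⟩ := Invol.nonempty_dihedral_equiv hp2 hq2 hne
      rw [h4] at e
      exact ⟨(MulEquiv.subgroupCongr hgen.symm).trans e⟩
    have hclos : ∀ p q : T, p ∈ C → q ∈ C → a ∈ Subgroup.closure ({p, q} : Set T) →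
        b ∈ Subgroup.closure ({p, q} : Set T) → Subgroup.closure ({p, q} : Set T) = C := by
      intro p q hp hq h1 h2
      refine le_antisymm ((Subgroup.closure_le _).2 ?_) (hcl ▸ (Subgroup.closure_le _).2 ?_) <;> intro y hy <;>
        simp only [Set.mem_insert_iff, Set.mem_singleton_iff] at hy <;> rcases hy with rfl | rfl <;> assumption
    rcases ha2 with ha1 | ha1 <;> rcases hb2 with hb1 | hb1
    · exact Or.inl (hdih a haC b hbC ha1 hb1 hab hcl)
    · refine Or.inl (hdih a haC (a * b) (C.mul_mem haC hbC) ha1 (by rw [hmulsq, ha1, hb1, one_mul, hu2]) ?_ ?_)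
      · rw [hmr, commutatorElement_self, one_mul]; exact hab
      · refine hclos a (a * b) haC (C.mul_mem haC hbC) ?_ ?_
        · exact Subgroup.subset_closure (by simp)
        · exact (mul_mem_cancel_left (Subgroup.subset_closure (show a ∈ ({a, a * b} : Set T) by simp))).1
            (Subgroup.subset_closure (by simp))
    · refine Or.inl (hdih b hbC (a * b) (C.mul_mem haC hbC) hb1 (by rw [hmulsq, ha1, hb1, mul_one, hu2]) ?_ ?_)
      · rw [hmr, commutatorElement_self, mul_one]
        exact fun h => hab (by rw [hu, ← commutatorElement_inv b a, h, inv_one])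
      · refine hclos b (a * b) hbC (C.mul_mem haC hbC) ?_ ?_
        · exact (mul_mem_cancel_right (Subgroup.subset_closure (show b ∈ ({b, a * b} : Set T) by simp))).1
            (Subgroup.subset_closure (by simp))
        · exact Subgroup.subset_closure (by simp)
    · refine Or.inr ?_
      let a' : C := ⟨a, haC⟩
      let b' : C := ⟨b, hbC⟩
      have ha4 : orderOf a' = 2 ^ 2 := by
        rw [← Subgroup.orderOf_coe, hord4 a (S.sq a) (by rw [ha1]; exact hab)]; norm_num
      refine UniqueInvol.nonempty_quaternion_equiv (a := a') (g := b') (n := 2) (by norm_num) ha4 ?_ ?_ ?_ ?_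
      · have h := (Subgroup.zpowers a').card_mul_index
        rw [Nat.card_zpowers, ha4, hcard] at h
        omega
      · rintro ⟨k, hk⟩
        have hk' : a ^ k = b := congrArg Subtype.val hk
        exact hnc (hk' ▸ Commute.self_zpow a k)
      · refine Subtype.ext ?_
        show b * a * b⁻¹ = a⁻¹
        rw [hswap a b, mul_assoc a b, Subgroup.mem_center_iff.1 huZ b]
        rw [eq_inv_iff_mul_eq_one]
        calc a * (u * b) * b⁻¹ * a = a * u * a := by group
          _ = a * a * u := by rw [mul_assoc, ← Subgroup.mem_center_iff.1 huZ a, mul_assoc]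
          _ = 1 := by rw [ha1, hu2]
      · refine Subtype.ext ?_
        show b ^ 2 = a ^ (2 ^ (2 - 1))
        norm_num [pow_two, ha1, hb1]

end CfsgLib.SixtyFourSym
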