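import Cfsg.Agent.LocalB.FpfThreeTwoStructure

/-!
An automorphism of order three without fixed points and an involution inverting it: every element is
uniquely a product of a fixed point of the involution and the image of another; structure in order 64.
-/

set_option autoImplicit false
set_option linter.unusedSectionVars false
set_option linter.style.haveILetI false

namespace CfsgLib.SixtyFourSym

open scoped commutatorElement

variable {T : Type*} [Group T] [Finite T] (r : T ≃* T) (h3 : ∀ y, r (r (r y)) = y)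
  (hfp : ∀ y, r y = y → y = 1)

include hfp in
theorem twist_bijective : Function.Bijective fun y : T => y⁻¹ * r y := by
  refine Finite.injective_iff_bijective.1 fun y z h => ?_
  refine mul_inv_eq_one.1 (hfp (y * z⁻¹) ?_)
  have h2 : r y = y * (z⁻¹ * r z) := by rw [← show y⁻¹ * r y = z⁻¹ * r z from h]; group
  rw [map_mul, map_inv, h2]; group

include h3 hfp in
theorem inv_eq (y : T) : y⁻¹ = r y * r (r y) := by
  obtain ⟨z, rfl⟩ := (twist_bijective r hfp).2 y
  simp only [map_mul, map_inv, h3]
  group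

include h3 hfp in
theorem rr_eq (y : T) : r (r y) = (r y)⁻¹ * y⁻¹ := by
  rw [inv_eq r h3 hfp y]; group

include h3 hfp in
theorem commute_r (y : T) : Commute y (r y) := by
  obtain ⟨z, hz⟩ : ∃ z, y = z⁻¹ * r (r z) := by
    obtain ⟨z, hz⟩ := (twist_bijective r hfp).2 y⁻¹
    refine ⟨r z, ?_⟩
    rw [h3, ← inv_inv y, ← hz]; group
  have h4 : y * r (r y) * r y = 1 := by
    rw [hz]
    simp only [map_mul, map_inv, h3]
    group
  have h5 : r y * r (r y) = r (r y) * r y := by
    rw [← inv_eq r h3 hfp y]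
    exact inv_eq_of_mul_eq_one_right (by rw [← mul_assoc]; exact h4)
  have h6 := congrArg r (congrArg r h5)
  simp only [map_mul, h3] at h6
  exact h6

omit [Finite T] in
theorem map_center {y : T} (hy : y ∈ Subgroup.center T) : r y ∈ Subgroup.center T :=
  Subgroup.mem_center_iff.2 fun g => by
    obtain ⟨g, rfl⟩ := r.surjective g
    rw [← map_mul, Subgroup.mem_center_iff.1 hy g, map_mul]

include hfp in
theorem center_of_twist {y : T} (h : y⁻¹ * r y ∈ Subgroup.center T) : y ∈ Subgroup.center T := by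
  let f : Subgroup.center T → Subgroup.center T :=
    fun v => ⟨(v : T)⁻¹ * r v, mul_mem (inv_mem v.2) (map_center r v.2)⟩
  have hf : Function.Injective f := fun v w e =>
    Subtype.ext ((twist_bijective r hfp).1 (congrArg Subtype.val e))
  obtain ⟨w, hw⟩ := Finite.surjective_of_injective hf ⟨_, h⟩
  rw [← (twist_bijective r hfp).1 (congrArg Subtype.val hw)]
  exact w.2

include h3 hfp in
theorem center_index_ne_four : (Subgroup.center T).index ≠ 4 := by
  intro h
  obtain ⟨a, ha⟩ : ∃ a, a ∉ Subgroup.center T := by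
    by_contra hc
    push Not at hc
    rw [(Subgroup.eq_top_iff' _).2 hc, Subgroup.index_top] at h
    omega
  set K := Subgroup.centralizer ({a} : Set T) with hK
  have haK : a ∈ K := Subgroup.mem_centralizer_singleton_iff.2 rfl
  have hraK : r a ∈ K := Subgroup.mem_centralizer_singleton_iff.2 (commute_r r h3 hfp a).eq.symm
  have hZK : Subgroup.center T ≤ K := Subgroup.center_le_centralizer _
  have hKtop : K.index ≠ 1 := fun h1 => ha (Subgroup.mem_center_iff.2 fun g =>
    Subgroup.mem_centralizer_singleton_iff.1 (show g ∈ K by rw [Subgroup.index_eq_one.1 h1]; exact Subgroup.mem_top g))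
  have hprod := Subgroup.relIndex_mul_index hZK
  rw [h] at hprod
  have hrel : (Subgroup.center T).relIndex K ≠ 1 := fun h1 => ha (Subgroup.relIndex_eq_one.1 h1 haK)
  have h2 : (Subgroup.center T).relIndex K = 2 := by
    have hd : (Subgroup.center T).relIndex K ∣ 4 := ⟨_, hprod.symm⟩
    have hle := Nat.le_of_dvd (by norm_num) hd
    interval_cases hh : (Subgroup.center T).relIndex K <;> omega
  have hra : r a ∉ Subgroup.center T := fun hc => ha (by
    have := map_center r (map_center r hc)
    rwa [h3] at this)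
  refine ha (center_of_twist r hfp ?_)
  have hi : ((Subgroup.center T).subgroupOf K).index = 2 := h2
  have := (Subgroup.mul_mem_iff_of_index_two hi (a := ⟨a⁻¹, inv_mem haK⟩) (b := ⟨r a, hraK⟩)).2
  simp only [Subgroup.mem_subgroupOf, Subgroup.coe_mul, inv_mem_iff, ha, hra] at this
  exact this trivial

include h3 hfp in
theorem three_dvd_card_sub_one (H : Subgroup T) (hH : ∀ y ∈ H, r y ∈ H) : Nat.card H % 3 = 1 := by
  haveI : Fact (Nat.Prime 3) := ⟨Nat.prime_three⟩
  classical
  haveI := Fintype.ofFinite H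
  let f : Equiv.Perm H :=
    { toFun := fun y => ⟨r y, hH _ y.2⟩
      invFun := fun y => ⟨r (r y), hH _ (hH _ y.2)⟩
      left_inv := fun y => Subtype.ext (h3 _)
      right_inv := fun y => Subtype.ext (h3 _) }
  have hf : f ^ 3 ^ 1 = 1 := Equiv.ext fun y => Subtype.ext (by simp [f, pow_succ, h3])
  have h := Equiv.Perm.card_compl_support_modEq (n := 1) hf
  have hs : f.supportᶜ = {1} := by
    ext y
    simp only [Finset.mem_compl, Equiv.Perm.notMem_support, Finset.mem_singleton]
    exact ⟨fun e => Subtype.ext (hfp _ (congrArg Subtype.val e)),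
      fun e => Subtype.ext (by subst e; exact map_one r)⟩
  rw [hs, Finset.card_singleton] at h
  rw [Nat.card_eq_fintype_card]
  exact h.symm

include h3 hfp in
theorem center_card_sixteen (hT : Nat.card T = 16) : Subgroup.center T = ⊤ := by
  haveI : Fact (Nat.Prime 2) := ⟨Nat.prime_two⟩
  haveI : Nontrivial T := Finite.one_lt_card_iff_nontrivial.1 (by omega)
  have hp : IsPGroup 2 T := IsPGroup.of_card (n := 4) hT
  haveI := hp.center_nontrivial
  have h1 : 1 < Nat.card (Subgroup.center T) := Finite.one_lt_card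
  have h2 := three_dvd_card_sub_one r h3 hfp _ (fun y hy => map_center r hy)
  have h4 := (Subgroup.center T).card_mul_index
  have h5 := center_index_ne_four r h3 hfp
  rw [hT] at h4
  refine Subgroup.index_eq_one.1 ?_
  have hd : Nat.card (Subgroup.center T) ∣ 16 := ⟨_, h4.symm⟩
  have hle := Nat.le_of_dvd (by norm_num) hd
  interval_cases hh : Nat.card (Subgroup.center T) <;> omega

/-- The structure of a noncommutative group of order 64. -/
structure Str : Prop where
  hcl : ∀ y z : T, ⁅y, z⁆ ∈ Subgroup.center T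
  sq : ∀ y : T, y * y ∈ Subgroup.center T
  exp : ∀ w ∈ Subgroup.center T, w * w = 1
  four : ∀ u ∈ Subgroup.center T, u ≠ 1 → ∀ w ∈ Subgroup.center T, w = 1 ∨ w = u ∨ w = r u ∨ w = r (r u)

include h3 hfp in
theorem str (hT : Nat.card T = 64) (hna : ∃ y z : T, ⁅y, z⁆ ≠ 1) : Str r := by
  classical
  haveI : Fact (Nat.Prime 2) := ⟨Nat.prime_two⟩
  haveI : Nontrivial T := Finite.one_lt_card_iff_nontrivial.1 (by omega)
  have hp : IsPGroup 2 T := IsPGroup.of_card (n := 6) hT
  haveI := hp.center_nontrivial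
  set Z := Subgroup.center T with hZ
  have hidx : Z.index ≠ 1 := by
    intro h
    obtain ⟨y, z, hyz⟩ := hna
    refine hyz (commutatorElement_eq_one_iff_mul_comm.2 ?_)
    exact Subgroup.mem_center_iff.1 ((Subgroup.index_eq_one.1 h).symm ▸ Subgroup.mem_top z : z ∈ Z) y
  have h1 : 1 < Nat.card Z := Finite.one_lt_card
  have h2 := three_dvd_card_sub_one r h3 hfp Z (fun y hy => map_center r hy)
  have h4 := Z.card_mul_index
  have h5 : Z.index ≠ 4 := center_index_ne_four r h3 hfp
  rw [hT] at h4
  have hcard : Nat.card Z = 4 := by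
    have hd : Nat.card Z ∣ 2 ^ 6 := ⟨_, by rw [h4]; norm_num⟩
    obtain ⟨k, hk, he⟩ := (Nat.dvd_prime_pow Nat.prime_two).1 hd
    rw [he] at h1 h2 h4 ⊢
    interval_cases k <;> omega
  have hfour : ∀ u ∈ Z, u ≠ 1 → ∀ w ∈ Z, w = 1 ∨ w = u ∨ w = r u ∨ w = r (r u) := by
    intro u hu hu1 w hw
    let S : Finset T := {1, u, r u, r (r u)}
    have hu2 : r u ≠ 1 := fun h => hu1 (r.injective (h.trans (map_one r).symm))
    have hu3 : r (r u) ≠ 1 := fun h => hu2 (r.injective (h.trans (map_one r).symm))
    have hne : ∀ v : T, v ≠ 1 → v ≠ r v := fun v hv h => hv (hfp v h.symm)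
    have hne2 : u ≠ r (r u) := fun h => hne u hu1 (by
      have := congrArg r h; rw [h3] at this; exact this.symm)
    have hS : S.card = 4 := by
      rw [Finset.card_insert_of_notMem, Finset.card_insert_of_notMem, Finset.card_pair (hne _ hu2)]
      · simp [hne _ hu1, hne2]
      · simp [hu1.symm, hu2.symm, hu3.symm]
    have hF : S = (Set.toFinite (Z : Set T)).toFinset := by
      refine Finset.eq_of_subset_of_card_le (fun a ha => (Set.Finite.mem_toFinset _).2 ?_) ?_
      · simp only [S, Finset.mem_insert, Finset.mem_singleton] at ha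
        rcases ha with rfl | rfl | rfl | rfl
        exacts [one_mem _, hu, map_center r hu, map_center r (map_center r hu)]
      · rw [hS, ← Set.ncard_eq_toFinset_card (Z : Set T), ← Nat.card_coe_set_eq]
        exact hcard.le
    have hwS : w ∈ S := by rw [hF, Set.Finite.mem_toFinset]; exact hw
    simpa [S] using hwS
  have hexp : ∀ w ∈ Z, w * w = 1 := by
    obtain ⟨u, hu⟩ := exists_prime_orderOf_dvd_card' (G := Z) 2 (by rw [hcard]; norm_num)
    have hu2 : (u : T) * u = 1 := by
      have := pow_orderOf_eq_one u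
      rw [hu, pow_two] at this
      exact congrArg Subtype.val this
    have hu1 : (u : T) ≠ 1 := fun h => by
      rw [orderOf_eq_one_iff.2 (Subtype.ext h)] at hu
      omega
    intro w hw
    rcases hfour u u.2 hu1 w hw with rfl | rfl | rfl | rfl
    · exact mul_one 1
    · exact hu2
    · rw [← map_mul, hu2, map_one]
    · rw [← map_mul, ← map_mul, hu2, map_one, map_one]
  have hcl : ∀ y z : T, ⁅y, z⁆ ∈ Z := by
    have hmap : Z.map r.toMonoidHom = Z := le_antisymm
      (Subgroup.map_le_iff_le_comap.2 fun y hy => map_center r hy)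
      fun y hy => ⟨r (r y), map_center r (map_center r hy), h3 y⟩
    let q : T ⧸ Z ≃* T ⧸ Z := QuotientGroup.congr Z Z r hmap
    have hq : ∀ y : T, q (y : T ⧸ Z) = (r y : T ⧸ Z) := fun y => rfl
    have hq3 : ∀ y, q (q (q y)) = y := by
      intro y
      induction y using QuotientGroup.induction_on with
      | H y => rw [hq, hq, hq, h3]
    have hqfp : ∀ y, q y = y → y = 1 := by
      intro y
      induction y using QuotientGroup.induction_on with
      | H y =>
        intro h
        rw [hq, QuotientGroup.eq] at h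
        rw [QuotientGroup.eq_one_iff]
        refine center_of_twist r hfp ?_
        have h2 := inv_mem h
        rwa [mul_inv_rev, inv_inv] at h2
    have h16 : Nat.card (T ⧸ Z) = 16 := by
      rw [← Subgroup.index_eq_card]
      rw [hcard] at h4
      omega
    have htop := center_card_sixteen q hq3 hqfp h16
    intro y z
    rw [← QuotientGroup.eq_one_iff]
    show (QuotientGroup.mk' Z) ⁅y, z⁆ = 1
    rw [map_commutatorElement]
    refine commutatorElement_eq_one_iff_mul_comm.2 ?_
    exact Subgroup.mem_center_iff.1 (htop.symm ▸ Subgroup.mem_top _) _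
  refine ⟨hcl, fun y => Subgroup.mem_center_iff.2 fun g => ?_, hexp, hfour⟩
  refine (commutatorElement_eq_one_iff_mul_comm.1 ?_).symm
  rw [FpfThreeTwo.comm_mul_left hcl]
  exact hexp _ (hcl y g)

/-- Commutators of two orbits. -/
theorem comm_values (S : Str r) (h3 : ∀ y, r (r (r y)) = y) (hfp : ∀ y, r y = y → y = 1) (a b : T) :
    ⁅a, r b⁆ = r (r ⁅a, b⁆) ∧ ⁅r a, b⁆ = r (r ⁅a, b⁆) ∧ ⁅r a, r b⁆ = r ⁅a, b⁆ ∧
      ⁅a, r (r b)⁆ = r ⁅a, b⁆ := by
  have hinv : ∀ y z : T, ⁅y, z⁆⁻¹ = ⁅y, z⁆ := fun y z =>
    inv_eq_of_mul_eq_one_right (S.exp _ (S.hcl y z))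
  have hml := FpfThreeTwo.comm_mul_left S.hcl
  have hmr := FpfThreeTwo.comm_mul_right S.hcl
  have hcr : ∀ y, ⁅y, r y⁆ = 1 := fun y => commutatorElement_eq_one_iff_mul_comm.2 (commute_r r h3 hfp y).eq
  set c := ⁅a, b⁆ with hc
  set d := ⁅a, r b⁆ with hd
  have hd' : ⁅r a, b⁆ = d := by
    have h := hcr (a * b)
    rw [map_mul, hml, hmr, hmr, hcr a, hcr b, one_mul, mul_one, ← hd, ← commutatorElement_inv (r a) b, hinv] at h
    rw [← hinv (r a) b, inv_eq_of_mul_eq_one_left h]
  have hrc : r (r c) = r c * c := by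
    rw [rr_eq r h3 hfp, hinv, ← map_inv, hinv]
  have hrd : r d = r c * d := by
    rw [hd, map_commutatorElement r, rr_eq r h3 hfp, hmr, FpfThreeTwo.comm_inv_right S.hcl,
      FpfThreeTwo.comm_inv_right S.hcl, hinv, hinv, hd', ← map_commutatorElement r]
  have hdc : ∀ g, g * d = d * g := fun g => Subgroup.mem_center_iff.1 (S.hcl a (r b)) g
  have he : d * r (r c) = 1 := by
    refine hfp _ ?_
    rw [map_mul, h3, hrd, hrc, hdc (r c), mul_assoc]
  have hdv : d = r (r c) := by
    rw [eq_inv_of_mul_eq_one_left he, ← map_inv, ← map_inv, hinv]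
  refine ⟨hdv, hd'.trans hdv, (map_commutatorElement r a b).symm, ?_⟩
  rw [rr_eq r h3 hfp, hmr, FpfThreeTwo.comm_inv_right S.hcl, FpfThreeTwo.comm_inv_right S.hcl, hinv,
    hinv, ← hd, ← hc, hdv, hrc, mul_assoc, S.exp c (S.hcl a b), mul_one]

/-- Fixed points of an inverting involution and their images give every element exactly once. -/
theorem fix_prod_bijective (h3 : ∀ y, r (r (r y)) = y) (hfp : ∀ y, r y = y → y = 1) (x : T ≃* T)
    (hx2 : ∀ y, x (x y) = y) (hxr : ∀ y, x (r y) = r (r (x y))) (C : Subgroup T)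
    (hC : ∀ y, y ∈ C ↔ x y = y) :
    Function.Bijective fun p : C × C => (p.1 : T) * r (p.2 : T) := by
  have hrrx : ∀ y, x (r (r y)) = r (x y) := fun y => by rw [hxr, hxr, h3]
  constructor
  · rintro ⟨⟨f, hf⟩, ⟨g, hg⟩⟩ ⟨⟨f', hf'⟩, ⟨g', hg'⟩⟩ h
    have h : f * r g = f' * r g' := h
    have hk : r (g' * g⁻¹) = f'⁻¹ * f := by
      rw [map_mul, map_inv]
      have e : r g' = f'⁻¹ * (f * r g) := by rw [h]; group
      rw [e]; group
    have hxk := congrArg x hk
    rw [hxr, map_mul x, map_mul x, map_inv x, map_inv x, (hC g).1 hg, (hC g').1 hg', (hC f).1 hf, (hC f').1 hf',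
      ← hk] at hxk
    have e := hfp _ (r.injective hxk)
    obtain rfl := mul_inv_eq_one.1 e
    obtain rfl := mul_right_cancel h
    rfl
  · intro v
    obtain ⟨g, hg⟩ := (twist_bijective r hfp).2 (r (r (v⁻¹ * x v)))
    have hg1 : r (g⁻¹ * r g) = v⁻¹ * x v := by rw [show g⁻¹ * r g = _ from hg, h3]
    have hgC : g ∈ C := by
      refine (hC g).2 ((twist_bijective r hfp).1 ?_)
      show (x g)⁻¹ * r (x g) = g⁻¹ * r g
      have h := congrArg x hg1
      rw [map_mul x, map_inv x, hx2, map_mul r, map_inv r, map_mul x, map_inv x, hxr, hrrx,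
        show (x v)⁻¹ * v = (v⁻¹ * x v)⁻¹ by group, ← hg1, map_mul r, map_inv r, mul_inv_rev, inv_inv] at h
      have h2 := congrArg (fun y => r y) (congrArg (·⁻¹) h)
      simp only [mul_inv_rev, inv_inv, map_mul, map_inv, h3] at h2
      -- `h2` is the claim moved by one application of `r`
      have h4 := congrArg r h2
      simp only [map_mul, map_inv, h3] at h4
      exact h4
    have hfC : v * (r g)⁻¹ ∈ C := by
      refine (hC _).2 ?_
      rw [map_mul, map_inv, hxr, (hC g).1 hgC, show x v = v * r (g⁻¹ * r g) by rw [hg1]; group, map_mul,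
        map_inv]
      group
    exact ⟨(⟨_, hfC⟩, ⟨g, hgC⟩), inv_mul_cancel_right v (r g)⟩

end CfsgLib.SixtyFourSym
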